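import Mathlib

set_option autoImplicit false
universe u v

namespace Groth.Agent.Zeta8

open Polynomial in
theorem charpolyRev_eq_exp {K : Type u} [Field K] [CharZero K]
    {n : Type v} [Fintype n] [DecidableEq n] (M : Matrix n n K) :
    ((M.charpolyRev : Polynomial K) : PowerSeries K) =
      PowerSeries.subst (PowerSeries.mk fun m : ℕ => -(Matrix.trace (M ^ m)) / (m : K))
        (PowerSeries.exp K) := by
  classical
  let S := PowerSeries K
  let t : S := PowerSeries.X
  let Mc : Matrix n n S := M.map PowerSeries.C
  let N : Matrix n n S := fun i j => PowerSeries.mk fun m => -((M ^ (m + 1)) i j)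
  have hN : N = t • (Mc * N) - Mc := by
    refine Matrix.ext fun i j => ?_
    ext m
    simp only [Matrix.sub_apply, Matrix.smul_apply, Matrix.mul_apply, smul_eq_mul, map_sub, t, Mc, Matrix.map_apply]
    cases m with
    | zero => simp [N]
    | succ m =>
      erw [PowerSeries.coeff_succ_X_mul]
      simp only [map_sum, PowerSeries.coeff_C_mul]
      simp [N, pow_succ' M (m + 1), Matrix.mul_apply]
      rw [← Finset.sum_neg_distrib]
      refine Finset.sum_congr rfl fun x _ => ?_
      erw [PowerSeries.coeff_C_mul, PowerSeries.coeff_mk]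
      rw [mul_neg]
  -- the shift identity over `S[h]`
  let Mh : Matrix n n S[X] := Mc.map C
  let Nh : Matrix n n S[X] := N.map C
  have hNh : Nh = C t • (Mh * Nh) - Mh := by
    show N.map C = C t • (Mc.map C * N.map C) - Mc.map C
    conv_lhs => rw [hN]
    rw [← Matrix.map_mul]
    exact Matrix.ext fun i j => by simp [Matrix.mul_apply]
  have hfac : 1 - (C t + X) • Mh = (1 - C t • Mh) * (1 + (X : S[X]) • Nh) := by
    have h1 : (1 - C t • Mh) * Nh = -Mh := by
      rw [sub_mul, one_mul, smul_mul_assoc]
      conv_lhs => arg 1; rw [hNh]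
      abel
    rw [mul_add, mul_one, mul_smul_comm, h1, add_smul, smul_neg]
    abel
  let F := M.charpolyRev
  have hcomp : (F.map PowerSeries.C).comp (C t + X) = (1 - (C t + X) • Mh).det := by
    rw [← coe_compRingHom_apply, ← Polynomial.coe_mapRingHom, ← RingHom.comp_apply]
    show _ = _
    simp only [F, Matrix.charpolyRev, RingHom.map_det]
    congr 1
    refine Matrix.ext fun i j => ?_
    by_cases h : i = j <;> simp [Mh, Mc, h] <;> exact mul_comm _ _
  have hcoe : ∀ p : K[X], (p.map PowerSeries.C).eval t = (p : PowerSeries K) := fun p => by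
    induction p using Polynomial.induction_on' with
    | add p q hp hq => simp [Polynomial.map_add, hp, hq]
    | monomial m a => simp [t, PowerSeries.monomial_eq_C_mul_X_pow, Polynomial.coe_monomial]
  have key : ((derivative F : K[X]) : PowerSeries K) = (F : PowerSeries K) * Matrix.trace N := by
    have h1 : ((derivative ((F.map PowerSeries.C).comp (C t + X))).eval 0) = ((derivative F : K[X]) : PowerSeries K) := by
      rw [derivative_comp, derivative_map, ← hcoe]
      simp [eval_comp]
    have h2 : ((1 - C t • Mh).det).eval 0 = (F : PowerSeries K) := by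
      rw [← hcoe]
      show evalRingHom 0 (1 - C t • Mh).det = evalRingHom t (mapRingHom PowerSeries.C F)
      simp only [F, Matrix.charpolyRev, RingHom.map_det]
      congr 1
      refine Matrix.ext fun i j => ?_
      by_cases h : i = j <;> simp [Mh, Mc, h] <;> first | ring | exact mul_comm (t : PowerSeries K) _
    have hdC : (derivative ((1 - C t • Mh).det)) = 0 := by
      have : 1 - C t • Mh = (1 - t • Mc).map C := by
        refine Matrix.ext fun i j => ?_
        by_cases h : i = j <;> simp [Mh, h]
      rw [this, ← RingHom.mapMatrix_apply, ← RingHom.map_det, derivative_C]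
    rw [← h1, hcomp, hfac, Matrix.det_mul, derivative_mul, hdC, zero_mul, zero_add, eval_mul, h2,
      Matrix.derivative_det_one_add_X_smul]
  let L : PowerSeries K := PowerSeries.mk fun m : ℕ => -(Matrix.trace (M ^ m)) / (m : K)
  have hL0 : PowerSeries.constantCoeff L = 0 := by simp [L]
  have hT : PowerSeries.derivative K L = Matrix.trace N := by
    ext m
    rw [PowerSeries.coeff_derivative]
    simp [L, Matrix.trace, N]
    field_simp
  have hs : PowerSeries.HasSubst L := PowerSeries.HasSubst.of_constantCoeff_zero' hL0
  have hs' : PowerSeries.HasSubst (-L) := PowerSeries.HasSubst.of_constantCoeff_zero' (by rw [map_neg, hL0, neg_zero])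
  have hc : ∀ a : PowerSeries K, PowerSeries.HasSubst a → PowerSeries.constantCoeff a = 0 →
      PowerSeries.constantCoeff (PowerSeries.subst a (PowerSeries.exp K)) = 1 := by
    intro a ha h0
    rw [← PowerSeries.coeff_zero_eq_constantCoeff_apply, PowerSeries.coeff_subst' ha, finsum_eq_single _ 0]
    · simp
    · intro m hm; simp [h0, zero_pow hm]
  let G := PowerSeries.subst (-L) (PowerSeries.exp K)
  have huniq : ∀ Y : PowerSeries K, PowerSeries.constantCoeff Y = 1 →
      PowerSeries.derivative K Y = Y * Matrix.trace N → Y * G = 1 := by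
    intro Y hY0 hY
    refine PowerSeries.derivative.ext ?_ ?_
    · rw [Derivation.leibniz, Derivation.map_one_eq_zero, PowerSeries.derivative_subst hs', PowerSeries.derivative_exp,
        map_neg, hT, hY, smul_eq_mul, smul_eq_mul]
      ring
    · rw [map_mul, hY0, hc _ hs' (by rw [map_neg, hL0, neg_zero]), map_one, one_mul]
  have hF0 : PowerSeries.constantCoeff (F : PowerSeries K) = 1 := by
    rw [Polynomial.constantCoeff_coe, Polynomial.coeff_zero_eq_eval_zero, Matrix.eval_charpolyRev]
  have hE : PowerSeries.derivative K (PowerSeries.subst L (PowerSeries.exp K)) =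
      PowerSeries.subst L (PowerSeries.exp K) * Matrix.trace N := by
    rw [PowerSeries.derivative_subst hs, PowerSeries.derivative_exp, hT]
  have e1 := huniq _ hF0 (by rw [PowerSeries.derivative_coe, key])
  have e2 := huniq _ (hc _ hs hL0) hE
  have hG : G ≠ 0 := fun h => by simp [h] at e1
  exact mul_right_cancel₀ hG (e1.trans e2.symm)

end Groth.Agent.Zeta8
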