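import Mathlib

set_option autoImplicit false
universe u v w x

namespace Groth.Agent.Zeta8

open PowerSeries in
theorem coeff_le_prod {ι : Type} (s : Finset ι) (f : ι → PowerSeries ℝ)
    (h0 : ∀ i ∈ s, constantCoeff (f i) = 1)
    (hpos : ∀ i ∈ s, ∀ n : ℕ, 0 ≤ coeff n (f i)) (i : ι) (hi : i ∈ s) (n : ℕ) :
    coeff n (f i) ≤ coeff n (∏ j ∈ s, f j) := by
  classical
  have key : ∀ t : Finset ι, t ⊆ s → constantCoeff (∏ j ∈ t, f j) = 1 ∧ ∀ n, 0 ≤ coeff n (∏ j ∈ t, f j) := by
    intro t
    induction t using Finset.induction_on with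
    | empty => intro _; simp [coeff_one]; intro n; split_ifs <;> norm_num
    | insert a t ha IH =>
      intro hsub
      rw [Finset.insert_subset_iff] at hsub
      obtain ⟨h1, h2⟩ := IH hsub.2
      rw [Finset.prod_insert ha]
      refine ⟨by rw [map_mul, h0 a hsub.1, h1, one_mul], fun n => ?_⟩
      rw [coeff_mul]
      exact Finset.sum_nonneg fun p _ => mul_nonneg (hpos a hsub.1 _) (h2 _)
  obtain ⟨h1, h2⟩ := key (s.erase i) (Finset.erase_subset _ _)
  rw [← Finset.mul_prod_erase s f hi, coeff_mul]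
  have h3 : coeff n (f i) = coeff n (f i) * coeff 0 (∏ j ∈ s.erase i, f j) := by
    rw [coeff_zero_eq_constantCoeff, h1, mul_one]
  rw [h3]
  exact Finset.single_le_sum (f := fun p : ℕ × ℕ => coeff p.1 (f i) * coeff p.2 (∏ j ∈ s.erase i, f j))
    (fun p _ => mul_nonneg (hpos i hi _) (h2 _)) (by simp : (n, 0) ∈ Finset.HasAntidiagonal.antidiagonal n)

section pairing

variable {L : Type u} [Field L] {V W : Type u}
    [AddCommGroup V] [Module L V] [FiniteDimensional L V] [AddCommGroup W] [Module L W] [FiniteDimensional L W]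

omit [FiniteDimensional L V] [FiniteDimensional L W] in
theorem adjoint_comp (B : V →ₗ[L] W →ₗ[L] L) [B.IsPerfPair] (F : V →ₗ[L] V) (G : W →ₗ[L] W) (c : L)
    (h : ∀ (v : V) (w : W), B (F v) (G w) = c * B v w) :
    B.toPerfPair.symm.conj G.dualMap ∘ₗ F = c • LinearMap.id := by
  ext v
  apply B.toPerfPair.injective
  ext w
  simp [LinearEquiv.conj_apply, h]

theorem det_mul_det (B : V →ₗ[L] W →ₗ[L] L) [B.IsPerfPair] (F : V →ₗ[L] V) (G : W →ₗ[L] W) (c : L)
    (hFG : ∀ (v : V) (w : W), B (F v) (G w) = c * B v w) :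
    LinearMap.det F * LinearMap.det G = c ^ Module.finrank L V := by
  have h := congrArg LinearMap.det (adjoint_comp B F G c hFG)
  rw [LinearMap.det_comp, LinearMap.det_smul, LinearMap.det_id, mul_one] at h
  rw [← h, LinearEquiv.conj_apply, LinearMap.comp_assoc, LinearMap.det_conj, LinearMap.det_dualMap]
  ring

theorem det_smul_reverse (B : V →ₗ[L] W →ₗ[L] L) [B.IsPerfPair] (f : V →ₗ[L] V) (g : W →ₗ[L] W)
    (c : L) (hc : c ≠ 0) (hfg : ∀ (v : V) (w : W), B (f v) (g w) = c * B v w) :
    LinearMap.det f • (LinearMap.charpoly g).reverse =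
      ((-1) ^ Module.finrank L W * c ^ Module.finrank L W) • (c⁻¹ • f).charpoly := by
  classical
  have hr : Module.finrank L V = Module.finrank L W := by
    rw [B.toPerfPair.finrank_eq, Subspace.dual_finrank_eq]
  let g' : V →ₗ[L] V := B.toPerfPair.symm.conj g.dualMap
  have hg' : g'.charpoly = g.charpoly := by
    rw [LinearEquiv.charpoly_conj]
    let b := Module.finBasis L W
    rw [← LinearMap.charpoly_toMatrix g b, ← LinearMap.charpoly_toMatrix g.dualMap b.dualBasis,
      LinearMap.dualMap_def, LinearMap.toMatrix_transpose, Matrix.charpoly_transpose]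
  let b := Module.finBasis L V
  let A := LinearMap.toMatrix b b g'
  let F := LinearMap.toMatrix b b f
  have hAF : A * F = c • 1 := by
    rw [← LinearMap.toMatrix_comp, adjoint_comp B f g c hfg, map_smul, LinearMap.toMatrix_id]
  have hinv : A⁻¹ = c⁻¹ • F := Matrix.inv_eq_right_inv (by
    rw [Matrix.mul_smul, hAF, smul_smul, inv_mul_cancel₀ hc, one_smul])
  have hA : IsUnit A := (Matrix.isUnit_iff_isUnit_det A).mpr (Matrix.isUnit_det_of_right_inverse (B := c⁻¹ • F) (by
    rw [Matrix.mul_smul, hAF, smul_smul, inv_mul_cancel₀ hc, one_smul]))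
  have hdet : A.det * F.det = c ^ Module.finrank L W := by
    rw [← Matrix.det_mul, hAF, Matrix.det_smul, Matrix.det_one, mul_one, Fintype.card_fin, hr]
  have hA0 : A.det ≠ 0 := left_ne_zero_of_mul (hdet ▸ pow_ne_zero _ hc)
  have h1 : (c⁻¹ • f).charpoly =
      (-1) ^ Module.finrank L W * Polynomial.C A.det⁻¹ * (LinearMap.charpoly g).reverse := by
    rw [← LinearMap.charpoly_toMatrix (c⁻¹ • f) b, map_smul, ← hinv, Matrix.charpoly_inv A hA,
      ← Matrix.reverse_charpoly, LinearMap.charpoly_toMatrix g' b, hg', Ring.inverse_eq_inv, Fintype.card_fin, ← hr]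
  have hdf : LinearMap.det f = F.det := (LinearMap.det_toMatrix b f).symm
  rw [h1, hdf, Polynomial.smul_eq_C_mul, Polynomial.smul_eq_C_mul, map_mul, map_pow, map_neg, map_one]
  have h2 : Polynomial.C (c ^ Module.finrank L W) = Polynomial.C A.det * Polynomial.C F.det := by
    rw [← map_mul, hdet]
  have h3 : Polynomial.C A.det * Polynomial.C A.det⁻¹ = 1 := by
    rw [← map_mul, mul_inv_cancel₀ hA0, map_one]
  have h4 : ((-1 : Polynomial L) ^ Module.finrank L W) * (-1) ^ Module.finrank L W = 1 := by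
    rw [← mul_pow]; simp
  rw [h2]
  calc Polynomial.C F.det * (LinearMap.charpoly g).reverse
      = ((-1 : Polynomial L) ^ Module.finrank L W * (-1) ^ Module.finrank L W) *
          (Polynomial.C A.det * Polynomial.C A.det⁻¹) * (Polynomial.C F.det * (LinearMap.charpoly g).reverse) := by
        rw [h3, h4, one_mul, one_mul]
    _ = _ := by ring

end pairing

theorem invariants_tprod {k : Type u} [Field k] {G : Type v} [Group G]
    {V : Type w} {W : Type x} [AddCommGroup V] [Module k V] [AddCommGroup W] [Module k W]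
    (ρ : Representation k G V) :
    (ρ.tprod (Representation.trivial k G W)).invariants =
      LinearMap.range (TensorProduct.map ρ.invariants.subtype (LinearMap.id : W →ₗ[k] W)) := by
  classical
  let b := Module.Free.chooseBasis k W
  let e := TensorProduct.equivFinsuppOfBasisRight (M := V) b
  have he : ∀ (g : G) (z : TensorProduct k V W) i, e ((ρ.tprod (Representation.trivial k G W)) g z) i = ρ g (e z i) := by
    intro g z i
    induction z using TensorProduct.induction_on with
    | zero => simp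
    | tmul a c => simp [e, map_smul]
    | add p q hp hq => simp only [map_add, Finsupp.add_apply, hp, hq]
  apply le_antisymm
  · intro z hz
    have h1 : ∀ i, e z i ∈ ρ.invariants := fun i g => by rw [← he, hz g]
    rw [← e.symm_apply_apply z, ← (e z).sum_single, map_finsuppSum]
    refine Submodule.sum_mem _ fun i _ => ⟨(⟨e z i, h1 i⟩ : ρ.invariants) ⊗ₜ b i, ?_⟩
    simp [e]
  · rintro _ ⟨z, rfl⟩ g
    induction z using TensorProduct.induction_on with
    | zero => simp
    | tmul a c => simp [a.2 g]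
    | add p q hp hq => simp only [map_add, hp, hq]

open Finset in
theorem invariant_lift {k : Type u} [Field k]
    {A : Type v} [CommRing A] [Algebra k A] {G : Type w} [Group G] [Finite G]
    [MulSemiringAction G A] [SMulCommClass G k A] (I : Ideal A)
    (hI : ∀ (g : G) (a : A), a ∈ I → g • a ∈ I) (u : A) (hu : ∀ g : G, g • u - u ∈ I) :
    ∃ a : A, (∀ g : G, g • a = a) ∧
      Ideal.Quotient.mk I a =
        Ideal.Quotient.mk I u ^ (ringChar k ^ (Nat.card G).factorization (ringChar k)) := by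
  classical
  obtain ⟨P, hP, hidx⟩ : ∃ P : Subgroup G,
      Nat.card P = ringChar k ^ (Nat.card G).factorization (ringChar k) ∧ (P.index : k) ≠ 0 := by
    rcases CharP.char_is_prime_or_zero k (ringChar k) with hp | hp
    · haveI : Fact (ringChar k).Prime := ⟨hp⟩
      obtain ⟨P⟩ := Sylow.nonempty (p := ringChar k) (G := G)
      refine ⟨(P : Subgroup G), P.card_eq_multiplicity, ?_⟩
      rw [Ne, ringChar.spec]
      exact P.not_dvd_index
    · refine ⟨⊥, by simp [hp], ?_⟩
      rw [Ne, ringChar.spec, hp]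
      simp [Subgroup.index_bot, Nat.card_pos.ne']
  rw [← hP]
  let q := Ideal.Quotient.mk I
  have hq : ∀ g : G, q (g • u) = q u := fun g => Ideal.Quotient.eq.mpr (hu g)
  haveI : Fintype P := Fintype.ofFinite _
  haveI : Fintype (G ⧸ P) := Fintype.ofFinite _
  let N : A := ∏ g : P, (g : G) • u
  have hN : ∀ g : P, (g : G) • N = N := fun g => by
    rw [Finset.smul_prod']
    exact Fintype.prod_equiv (Equiv.mulLeft g) _ _ fun h => by simp [mul_smul]
  have hqN : q N = q u ^ Nat.card P := by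
    simp [N, map_prod, hq, Nat.card_eq_fintype_card]
  let T : G ⧸ P → A := Quotient.lift (fun g => g • N) (fun g h hgh => by
    have hm : g⁻¹ * h ∈ P := QuotientGroup.leftRel_apply.mp hgh
    conv_lhs => rw [← hN ⟨_, hm⟩]
    show g • (g⁻¹ * h) • N = h • N
    rw [← mul_smul, mul_inv_cancel_left])
  have hT : ∀ g c, g • T c = T (g • c) := fun g c => by
    induction c using Quotient.inductionOn' with
    | h x => show g • x • N = (g * x) • N; rw [mul_smul]
  have hqg : ∀ g : G, q (g • N) = q N := by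
    intro g
    simp only [N, Finset.smul_prod', ← mul_smul, map_prod, hq]
  refine ⟨((P.index : k)⁻¹) • ∑ c, T c, fun g => ?_, ?_⟩
  · rw [smul_comm, Finset.smul_sum]
    congr 1
    exact Fintype.sum_equiv (MulAction.toPerm g) _ _ fun c => hT g c
  · have h1 : ∀ c, q (T c) = q N := fun c => by
      induction c using Quotient.inductionOn' with
      | h x => exact hqg x
    show q _ = q u ^ Nat.card P
    rw [← hqN, Algebra.smul_def, map_mul, map_sum, Finset.sum_congr rfl fun c _ => h1 c, Finset.sum_const,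
      Finset.card_univ, ← Nat.card_eq_fintype_card, ← Subgroup.index]
    rw [nsmul_eq_mul, ← mul_assoc, ← map_natCast (algebraMap k A) P.index |> congrArg q |> fun h => h.trans (map_natCast q _),
      ← map_mul q, ← map_mul (algebraMap k A), inv_mul_cancel₀ hidx, map_one, map_one, one_mul]

open Filter Topology in
theorem norm_le_one {n : ℕ} (β : Fin n → ℂ) (C : ℝ)
    (hC : ∀ r : ℕ, 1 ≤ r → ‖∑ i, β i ^ r‖ ≤ C) (i : Fin n) : ‖β i‖ ≤ 1 := by
  by_contra! hi
  let u : Fin n → ℂ := fun j => β j / (‖β j‖ : ℂ)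
  have hu : ∀ j, ‖u j‖ ≤ 1 := fun j => by
    rw [norm_div, Complex.norm_real, norm_norm]; exact div_self_le_one _
  have hcpt : IsCompact (Set.univ.pi fun _ : Fin n => Metric.closedBall (0 : ℂ) 1) :=
    isCompact_univ_pi fun _ => isCompact_closedBall _ _
  obtain ⟨l, -, φ, hφ, hlim⟩ := hcpt.tendsto_subseq (x := fun r j => u j ^ r) fun r => by
    simp only [Set.mem_univ_pi, mem_closedBall_zero_iff, norm_pow]
    exact fun j => pow_le_one₀ (norm_nonneg _) (hu j)
  obtain ⟨a₀, ha₀⟩ := Metric.cauchySeq_iff.mp hlim.cauchySeq (1 / 2) (by norm_num)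
  obtain ⟨K, hK⟩ := (tendsto_atTop_atTop.mp (tendsto_pow_atTop_atTop_of_one_lt hi)) (2 * C + 1)
  obtain ⟨b, hb, hb'⟩ : ∃ b, a₀ ≤ b ∧ φ a₀ + K + 1 ≤ φ b :=
    ⟨a₀ + (φ a₀ + K + 1), Nat.le_add_right _ _, (Nat.le_add_left _ _).trans hφ.le_apply⟩
  set k := φ b - φ a₀ with hk
  have hre : ∀ j, ‖β j‖ ^ k / 2 ≤ (β j ^ k).re := by
    intro j
    rcases eq_or_ne (β j) 0 with h0 | h0
    · simp [h0, zero_pow (show k ≠ 0 by omega)]
    have hnu : ‖u j‖ = 1 := by
      rw [norm_div, Complex.norm_real, norm_norm, div_self (norm_ne_zero_iff.mpr h0)]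
    have hclose : ‖u j ^ k - 1‖ < 1 / 2 := by
      have h1 := (dist_le_pi_dist _ _ j).trans_lt (ha₀ b hb a₀ le_rfl)
      rw [dist_eq_norm] at h1
      simp only [Function.comp_apply] at h1
      rwa [show φ b = φ a₀ + k by omega, pow_add, show u j ^ φ a₀ * u j ^ k - u j ^ φ a₀ =
        u j ^ φ a₀ * (u j ^ k - 1) by ring, norm_mul, norm_pow, hnu, one_pow, one_mul] at h1
    have h2 : (1 : ℝ) / 2 ≤ (u j ^ k).re := by
      have := (Complex.abs_re_le_norm (u j ^ k - 1)).trans hclose.le
      rw [Complex.sub_re, Complex.one_re, abs_le] at this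
      linarith
    have h3 : β j ^ k = ((‖β j‖ ^ k : ℝ) : ℂ) * u j ^ k := by
      rw [Complex.ofReal_pow, ← mul_pow, mul_div_cancel₀ _ (by simpa using h0)]
    rw [h3, Complex.re_ofReal_mul]
    nlinarith [pow_nonneg (norm_nonneg (β j)) k]
  have h4 : ‖β i‖ ^ k / 2 ≤ (∑ j, β j ^ k).re := by
    rw [Complex.re_sum]
    exact (hre i).trans (Finset.single_le_sum (f := fun j => (β j ^ k).re)
      (fun j _ => le_trans (by positivity) (hre j)) (Finset.mem_univ i))
  have h5 := (Complex.re_le_norm _).trans (hC k (by omega))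
  have h6 := hK k (by omega)
  linarith

theorem norm_sq_eq {g : ℕ} (q : ℕ) (hq : 0 < q)
    (α : Fin (2 * g) → ℂ) (σ : Equiv.Perm (Fin (2 * g))) (hσ : ∀ i, α (σ i) * α i = q)
    (d : ℕ) (hd : 0 < d) (C : ℝ)
    (hC : ∀ N : ℕ, 1 ≤ N → ‖∑ i, α i ^ (d * N)‖ ≤ C * (q : ℝ) ^ ((d : ℝ) * N / 2))
    (i : Fin (2 * g)) : ‖α i‖ ^ 2 = q := by
  have hq' : (0 : ℝ) < q := Nat.cast_pos.mpr hq
  let s : ℝ := Real.sqrt q
  have hs : 0 < s := Real.sqrt_pos.mpr hq'
  have hs2 : s ^ 2 = q := Real.sq_sqrt hq'.le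
  have hpow : ∀ N : ℕ, (q : ℝ) ^ ((d : ℝ) * N / 2) = s ^ (d * N) := fun N => by
    rw [show s = (q : ℝ) ^ (1 / 2 : ℝ) from Real.sqrt_eq_rpow _, ← Real.rpow_natCast, ← Real.rpow_mul hq'.le]
    push_cast; ring_nf
  have hle : ∀ j, ‖α j‖ ≤ s := by
    intro j
    have h1 := norm_le_one (fun j => (α j / (s : ℂ)) ^ d) C (fun r hr => by
      simp only [← pow_mul, div_pow, ← Finset.sum_div, norm_div, norm_pow, Complex.norm_real,
        Real.norm_of_nonneg hs.le]
      rw [div_le_iff₀ (pow_pos hs _), ← hpow]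
      exact hC r hr) j
    rw [norm_pow, norm_div, Complex.norm_real, Real.norm_of_nonneg hs.le,
      pow_le_one_iff_of_nonneg (by positivity) hd.ne', div_le_one hs] at h1
    exact h1
  have h2 : ‖α (σ i)‖ * ‖α i‖ = s ^ 2 := by
    rw [← norm_mul, hσ, hs2]; simp
  have h3 := hle i
  have h4 := hle (σ i)
  have h5 : ‖α i‖ = s := by nlinarith [norm_nonneg (α i), norm_nonneg (α (σ i))]
  rw [h5, hs2]

open Polynomial in
theorem im_charpoly (L : Type u) [Field L] (ι : L →+* ℂ)
    {r : ℕ} (M : Matrix (Fin r) (Fin r) L)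
    (hM : ∀ z ∈ ((Matrix.charpoly M).map ι).roots, ‖z‖ = 1) (n : ℕ) :
    (ι ((Matrix.fromBlocks M 0 0 (M⁻¹).transpose).charpoly.coeff n)).im = 0 := by
  set M' : Matrix (Fin r) (Fin r) ℂ := M.map ι with hM'
  have hmap : M.charpoly.map ι = M'.charpoly := (Matrix.charpoly_map M ι).symm
  rw [hmap] at hM
  set s := M'.charpoly.roots with hs
  have hsplit : M'.charpoly = (s.map fun z => X - C z).prod :=
    (IsAlgClosed.splits _).eq_prod_roots_of_monic (Matrix.charpoly_monic _)
  have hz : ∀ z ∈ s, z ≠ 0 := fun z hz h => by simpa [h] using hM z hz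
  have hcard : Multiset.card s = r := by
    rw [hs, ← (IsAlgClosed.splits M'.charpoly).natDegree_eq_card_roots, Matrix.charpoly_natDegree_eq_dim,
      Fintype.card_fin]
  have hdet : M'.det = s.prod := Matrix.det_eq_prod_roots_charpoly ..
  have hdet0 : M'.det ≠ 0 := by
    rw [hdet, Ne, Multiset.prod_eq_zero_iff]; exact fun h => hz 0 h rfl
  have hMdet : M.det ≠ 0 := fun h => hdet0 (by rw [hM', ← RingHom.mapMatrix_apply, ← RingHom.map_det, h, map_zero])
  haveI : Invertible M := (Matrix.isUnit_iff_isUnit_det M).mpr (isUnit_iff_ne_zero.mpr hMdet) |>.invertible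
  have hinvmap : (M⁻¹).map ι = M'⁻¹ := by
    refine (Matrix.inv_eq_right_inv ?_).symm
    rw [hM', ← Matrix.map_mul, Matrix.mul_inv_of_invertible]
    simp
  have hinv : (M⁻¹).charpoly.map ι = (s.map fun z => X - C ((starRingEnd ℂ) z)).prod := by
    rw [← Matrix.charpoly_map, hinvmap,
      Matrix.charpoly_inv M' ((Matrix.isUnit_iff_isUnit_det M').mpr (isUnit_iff_ne_zero.mpr hdet0)),
      ← Matrix.reverse_charpoly, hdet, hsplit, Fintype.card_fin, ← hcard, Ring.inverse_eq_inv]
    clear hdet hsplit hcard hs hdet0 hinvmap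
    clear_value s
    induction s using Multiset.induction_on with
    | empty => simp; exact (by simpa using (reverse_C (1 : ℂ)))
    | cons a t IH =>
      have ha : a ≠ 0 := hz a (Multiset.mem_cons_self _ _)
      have hcj : (starRingEnd ℂ) a = a⁻¹ := by
        have h1 := hM a (Multiset.mem_cons_self _ _)
        rw [Complex.inv_def, Complex.normSq_eq_norm_sq, h1]; simp
      rw [Multiset.map_cons, Multiset.prod_cons, Multiset.map_cons, Multiset.prod_cons, Multiset.card_cons,
        Multiset.prod_cons, mul_inv, C.map_mul, pow_succ, reverse_mul_of_domain,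
        ← IH (fun z h => hM z (Multiset.mem_cons_of_mem h)) (fun z h => hz z (Multiset.mem_cons_of_mem h))]
      have hrev : (X - C a).reverse = 1 - C a * X := by
        rw [show X - C a = C (1 : ℂ) * X + C (-a) by simp [sub_eq_add_neg], reverse]
        rw [natDegree_linear one_ne_zero, reflect_add, reflect_C_mul, reflect_C]
        simp [sub_eq_add_neg]
      rw [hrev, hcj]
      have h1 : C a⁻¹ * C a = 1 := by rw [← map_mul, inv_mul_cancel₀ ha, map_one]
      linear_combination ((-1) ^ Multiset.card t * C t.prod⁻¹ * (t.map fun z => X - C z).prod.reverse * X) * h1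
  set P := (s.map fun z => X - C z).prod with hP
  have hconj : P.map (starRingEnd ℂ) = (s.map fun z => X - C ((starRingEnd ℂ) z)).prod := by
    rw [hP, Polynomial.map_multiset_prod, Multiset.map_map]
    simp
  have hconj2 : (P.map (starRingEnd ℂ)).map (starRingEnd ℂ) = P := by
    rw [Polynomial.map_map]
    ext m
    simp
  have hF : (Matrix.fromBlocks M 0 0 (M⁻¹).transpose).charpoly.map ι = P * P.map (starRingEnd ℂ) := by
    rw [Matrix.charpoly_fromBlocks_zero₁₂, Matrix.charpoly_transpose, Polynomial.map_mul, hmap, hinv, hconj, hsplit]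
  rw [← Polynomial.coeff_map, hF, ← Complex.conj_eq_iff_im, ← Polynomial.coeff_map (starRingEnd ℂ),
    Polynomial.map_mul, hconj2, mul_comm]

open PowerSeries in
theorem log_exp :
    PowerSeries.subst (PowerSeries.exp ℚ - 1)
        (PowerSeries.mk fun m : ℕ => if m = 0 then (0 : ℚ) else (-1) ^ (m + 1) / (m : ℚ)) =
      PowerSeries.X ∧
    PowerSeries.subst (PowerSeries.mk fun m : ℕ => if m = 0 then (0 : ℚ) else (-1) ^ (m + 1) / (m : ℚ))
        (PowerSeries.exp ℚ) = 1 + PowerSeries.X := by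
  have hlog : (PowerSeries.mk fun m : ℕ => if m = 0 then (0 : ℚ) else (-1) ^ (m + 1) / (m : ℚ)) = log ℚ := by
    ext n; simp
  rw [hlog]
  let γ : PowerSeries ℚ := mk fun n => (-1) ^ n
  have hγ : γ * (1 + X) = 1 := by
    ext n
    cases n with
    | zero => simp [γ]
    | succ m => simp [γ, mul_add, coeff_succ_mul_X, coeff_one, pow_succ]
  have hdlog : derivative ℚ (log ℚ) = γ := by rw [deriv_log]; ext n; simp [γ]
  constructor
  · refine derivative.ext ?_ ?_
    · rw [derivative_subst HasSubst.exp_sub_one, hdlog, map_sub, derivative_exp, derivative_X,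
        Derivation.map_one_eq_zero, sub_zero]
      have h := congrArg (subst (exp ℚ - 1)) hγ
      rw [subst_mul HasSubst.exp_sub_one, subst_add HasSubst.exp_sub_one, subst_X HasSubst.exp_sub_one,
        ← coe_substAlgHom HasSubst.exp_sub_one, map_one, add_sub_cancel] at h
      rw [coe_substAlgHom] at h
      exact h
    · rw [constantCoeff_X]
      exact constantCoeff_subst_eq_zero (by rw [← constantCoeff_eq]; simp) _ (by simp)
  · set E := PowerSeries.subst (log ℚ) (exp ℚ) with hE
    have hE' : derivative ℚ E = E * γ := by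
      rw [hE, derivative_subst HasSubst.log, hdlog, derivative_exp]
    have hγ' : derivative ℚ γ = -(γ * γ) := by
      have h := congrArg (derivative ℚ) hγ
      rw [Derivation.leibniz, Derivation.map_one_eq_zero, map_add, Derivation.map_one_eq_zero, derivative_X,
        smul_eq_mul, smul_eq_mul] at h
      linear_combination γ * h - derivative ℚ γ * hγ
    have hQ : E * γ = 1 := by
      refine derivative.ext ?_ ?_
      · rw [Derivation.leibniz, Derivation.map_one_eq_zero, hE', hγ', smul_eq_mul, smul_eq_mul]; ring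
      · have h0 : constantCoeff E = 1 := by
          rw [hE, ← coeff_zero_eq_constantCoeff_apply, coeff_subst' HasSubst.log, finsum_eq_single _ 0]
          · simp
          · intro m hm; simp [zero_pow hm]
        simp [h0, γ]
    linear_combination (1 + X) * hQ - E * hγ

open Polynomial in
theorem fatou_int : ∀ (N : ℕ) (A Q : ℤ[X]) (Y : PowerSeries ℤ) (c : ℤ), c.natAbs = N → c ≠ 0 → Q.IsPrimitive →
    (Q : PowerSeries ℤ) * Y = PowerSeries.C c → IsUnit (Q.coeff 0) := by
  intro N
  induction N using Nat.strong_induction_on with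
  | _ N IH =>
  intro A Q Y c hN hc hQ hY
  by_cases hu : IsUnit c
  · have h := congrArg PowerSeries.constantCoeff hY
    rw [map_mul, PowerSeries.constantCoeff_C, Polynomial.constantCoeff_coe] at h
    exact isUnit_of_mul_isUnit_left (h ▸ hu)
  obtain ⟨l, hl, hdvd⟩ := Nat.exists_prime_and_dvd (fun h => hu (Int.isUnit_iff_natAbs_eq.mpr h))
  haveI := Fact.mk hl
  have hldvd : (l : ℤ) ∣ c := Int.natCast_dvd.mpr hdvd
  let φ := Int.castRingHom (ZMod l)
  have h0 : PowerSeries.map φ (Q : PowerSeries ℤ) * PowerSeries.map φ Y = 0 := by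
    rw [← map_mul, hY, PowerSeries.map_C, show φ c = 0 from (ZMod.intCast_zmod_eq_zero_iff_dvd c l).mpr hldvd,
      map_zero]
  have hQ0 : PowerSeries.map φ (Q : PowerSeries ℤ) ≠ 0 := by
    intro h
    have hu' : IsUnit (l : ℤ) := hQ (l : ℤ) (by
      rw [C_dvd_iff_dvd_coeff]
      intro i
      have := congrArg (PowerSeries.coeff i) h
      rw [PowerSeries.coeff_map, Polynomial.coeff_coe, map_zero] at this
      exact (ZMod.intCast_zmod_eq_zero_iff_dvd _ l).mp this)
    exact hl.one_lt.ne' (by simpa [Int.isUnit_iff_natAbs_eq] using hu')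
  have hY0 := (mul_eq_zero.mp h0).resolve_left hQ0
  have hdiv : ∀ i, (l : ℤ) ∣ PowerSeries.coeff i Y := fun i => by
    have := congrArg (PowerSeries.coeff i) hY0
    rw [PowerSeries.coeff_map, map_zero] at this
    exact (ZMod.intCast_zmod_eq_zero_iff_dvd _ l).mp this
  choose y hy using hdiv
  obtain ⟨c', rfl⟩ := hldvd
  have hc' : c' ≠ 0 := right_ne_zero_of_mul hc
  refine IH c'.natAbs ?_ A Q (PowerSeries.mk y) c' rfl hc' hQ ?_
  · rw [← hN, Int.natAbs_mul, Int.natAbs_natCast]
    exact lt_mul_of_one_lt_left (Int.natAbs_pos.mpr hc') hl.one_lt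
  · have hYy : Y = PowerSeries.C (l : ℤ) * PowerSeries.mk y := by
      ext i; rw [PowerSeries.coeff_C_mul, PowerSeries.coeff_mk, hy i]
    rw [hYy, map_mul, mul_left_comm] at hY
    exact mul_left_cancel₀ (fun h => hl.ne_zero (by exact_mod_cast PowerSeries.C_injective (h.trans (map_zero _).symm))) hY

open Polynomial in
theorem fatou (P Q : Polynomial ℚ) (hPQ : IsCoprime P Q) (_hP : P.coeff 0 = 1) (hQ : Q.coeff 0 = 1)
    (Z : PowerSeries ℤ)
    (hZ : (P : PowerSeries ℚ) = (Q : PowerSeries ℚ) * PowerSeries.map (Int.castRingHom ℚ) Z) :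
    (∃ P₀ : Polynomial ℤ, P₀.map (Int.castRingHom ℚ) = P) ∧
      ∃ Q₀ : Polynomial ℤ, Q₀.map (Int.castRingHom ℚ) = Q := by
  classical
  let φ := Int.castRingHom ℚ
  have hφ : Function.Injective φ := Int.cast_injective
  have hcl : ∀ F : ℚ[X], ∃ (m : ℤ) (G : ℤ[X]), m ≠ 0 ∧ G.map φ = C (φ m) * F := fun F => by
    obtain ⟨m, hm0, hm⟩ := IsLocalization.integerNormalization_spec (nonZeroDivisors ℤ) F
    refine ⟨m, IsLocalization.integerNormalization (nonZeroDivisors ℤ) F, nonZeroDivisors.ne_zero hm0, ?_⟩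
    ext i
    have h := congrArg (fun p => p.coeff i) hm
    simp [φ] at h ⊢
    exact_mod_cast h
  obtain ⟨m, Q', hm, hQ'⟩ := hcl Q
  set Q₁ := Q'.primPart with hQ₁
  set γ : ℚ := φ Q'.content / φ m with hγ
  have hQ'0 : Q' ≠ 0 := fun h => by
    rw [h, Polynomial.map_zero] at hQ'
    have := congrArg (fun p => p.coeff 0) hQ'
    simp [hQ] at this
    exact hm (by exact_mod_cast this.symm)
  have hQeq : Q = C γ * Q₁.map φ := by
    have h1 : Q'.map φ = C (φ Q'.content) * Q₁.map φ := by
      conv_lhs => rw [Q'.eq_C_content_mul_primPart, Polynomial.map_mul, Polynomial.map_C]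
    have hm' : φ m ≠ 0 := fun h => hm (hφ (by rw [h, map_zero]))
    rw [hγ, div_eq_inv_mul, map_mul, mul_assoc, ← h1, hQ', ← mul_assoc, ← map_mul, inv_mul_cancel₀ hm', map_one,
      one_mul]
  have hγ0 : γ ≠ 0 := fun h => by rw [h, map_zero, zero_mul] at hQeq; rw [hQeq, coeff_zero] at hQ; exact zero_ne_one hQ
  let P₁' : PowerSeries ℤ := (Q₁ : PowerSeries ℤ) * Z
  have hP₁ : PowerSeries.map φ P₁' = ((C γ⁻¹ * P : ℚ[X]) : PowerSeries ℚ) := by
    have hcancel : C γ⁻¹ * Q = Q₁.map φ := by
      rw [hQeq, ← mul_assoc, ← map_mul, inv_mul_cancel₀ hγ0, map_one, one_mul]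
    rw [map_mul, Polynomial.coe_mul, hZ, ← mul_assoc, ← Polynomial.coe_mul, hcancel, Polynomial.polynomial_map_coe]
  let P₁ : ℤ[X] := PowerSeries.trunc (P.natDegree + 1) P₁'
  have hP₁eq : (P₁ : PowerSeries ℤ) = P₁' := by
    ext i
    rw [Polynomial.coeff_coe, PowerSeries.coeff_trunc]
    split_ifs with h
    · rfl
    · symm
      apply hφ
      have := congrArg (PowerSeries.coeff i) hP₁
      rw [PowerSeries.coeff_map, Polynomial.coeff_coe, coeff_C_mul, coeff_eq_zero_of_natDegree_lt (by omega), mul_zero] at this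
      rw [this, map_zero]
  have hP₁' : P₁.map φ = C γ⁻¹ * P := by
    apply Polynomial.coe_inj.mp
    rw [Polynomial.polynomial_map_coe, hP₁eq, hP₁]
  obtain ⟨a, b, hab⟩ := hPQ
  obtain ⟨ma, A, hma, hA⟩ := hcl (a * C γ)
  obtain ⟨mb, B, hmb, hB⟩ := hcl (b * C γ)
  have hid : C mb * A * P₁ + C ma * B * Q₁ = C (ma * mb) := by
    apply Polynomial.map_injective φ hφ
    rw [Polynomial.map_add, Polynomial.map_mul, Polynomial.map_mul, Polynomial.map_mul, Polynomial.map_mul,
      hA, hB, hP₁', Polynomial.map_C, Polynomial.map_C, Polynomial.map_C, map_mul φ, C.map_mul]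
    have h1 : C γ * C γ⁻¹ = 1 := by rw [← map_mul, mul_inv_cancel₀ hγ0, map_one]
    have h2 : a * P + b * (C γ * Q₁.map φ) = 1 := by rw [← hQeq]; exact hab
    linear_combination (C (φ ma) * C (φ mb) * a * P) * h1 + (C (φ ma) * C (φ mb)) * h2
  have hprim := Q'.isPrimitive_primPart
  have hunit : IsUnit (Q₁.coeff 0) := fatou_int _ A Q₁
    (((C mb * A : ℤ[X]) : PowerSeries ℤ) * Z + ((C ma * B : ℤ[X]) : PowerSeries ℤ)) (ma * mb) rfl
    (mul_ne_zero hma hmb) hprim (by
      have h := congrArg ((↑) : ℤ[X] → PowerSeries ℤ) hid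
      rw [Polynomial.coe_add, Polynomial.coe_mul, Polynomial.coe_mul, hP₁eq, Polynomial.coe_C (ma * mb)] at h
      rw [← h]; simp only [P₁', Polynomial.coe_mul]; ring)
  have hγu : γ * φ (Q₁.coeff 0) = 1 := by
    rw [← hQ, hQeq, coeff_C_mul, coeff_map]
  obtain ⟨e, he⟩ : ∃ e : ℤ, φ e = γ := by
    obtain ⟨v, hv⟩ := hunit
    refine ⟨(v⁻¹ : ℤˣ), ?_⟩
    rw [← hv] at hγu
    calc φ (v⁻¹ : ℤˣ) = (γ * φ (v : ℤ)) * φ (v⁻¹ : ℤˣ) := by rw [hγu, one_mul]
      _ = γ := by rw [mul_assoc, ← map_mul, Units.mul_inv, map_one, mul_one]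
  refine ⟨⟨C e * P₁, ?_⟩, ⟨C e * Q₁, ?_⟩⟩
  · rw [Polynomial.map_mul, Polynomial.map_C, he, hP₁', ← mul_assoc, ← map_mul, mul_inv_cancel₀ hγ0, map_one, one_mul]
  · rw [Polynomial.map_mul, Polynomial.map_C, he, ← hQeq]

end Groth.Agent.Zeta8
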